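import Groth.Agent.CplFib6.GeomRedFormal
import Groth.Agent.CplFib6.Nagata
import Groth.Agent.Hensel.HenselizationFibre
import Groth.Agent.BrnchLib.Compl
import Groth.Agent.N12Aux.Nagata
import Groth.Agent.NagataLib.Localization

/-!
# Formal fibres of a henselization
-/

set_option linter.style.haveILetI false

namespace Groth.Agent.H4HenzNagata

universe u

open IsLocalRing TensorProduct

variable (R S : Type u) [CommRing R] [IsLocalRing R] [IsNoetherianRing R] [CommRing S] [IsLocalRing S]
  [Algebra R S] [IsLocalHom (algebraMap R S)]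

theorem hasGeomReducedFormalFibres_henselization [Hensel.IsHenselization R S]
    (hR : EGA4.HasGeomReducedFormalFibres R) : EGA4.HasGeomReducedFormalFibres S := by
  classical
  have h := Groth.Agent.Hensel.isHenzLike_of_isHenselization R S
  haveI : IsNoetherianRing S := h.isNoetherianRing_iff.1 inferInstance
  intro q _
  refine FlatLoc6.geomReduced_of_finite fun L _ _ hL => ?_
  letI : Algebra S L := ((algebraMap q.ResidueField L).comp (algebraMap S q.ResidueField)).toAlgebra
  haveI : IsScalarTower S q.ResidueField L := IsScalarTower.of_algebraMap_eq fun _ => rfl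
  letI : Algebra R L := ((algebraMap S L).comp (algebraMap R S)).toAlgebra
  haveI : IsScalarTower R S L := IsScalarTower.of_algebraMap_eq fun _ => rfl
  let S' := S ⊗[R] L
  haveI : IsReduced S' := h.isReduced_tensor L
  -- `S'` is integral over `L`
  haveI : Ring.KrullDimLE 0 S' := by
    let p := RingHom.ker (algebraMap R L)
    haveI : p.IsPrime := RingHom.ker_isPrime _
    obtain ⟨_, _⟩ := FlatLoc6.exists_residueAlgebra (L := L) p rfl
    obtain ⟨n, K, _, _, hsep, ⟨e⟩⟩ := h.exists_fibre_equiv_pi p
    haveI : ∀ i, Algebra.IsIntegral p.ResidueField (K i) := fun i => by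
      haveI := hsep i
      exact Algebra.IsAlgebraic.isIntegral
    haveI : Algebra.IsIntegral p.ResidueField (p.ResidueField ⊗[R] S) := ⟨fun x => by
      refine (isIntegral_algHom_iff e.toAlgHom e.injective).mp ?_
      refine ⟨∏ i, minpoly p.ResidueField (e x i),
        Polynomial.monic_prod_of_monic _ _ fun i _ => minpoly.monic (Algebra.IsIntegral.isIntegral _), ?_⟩
      rw [← Polynomial.aeval_def, map_prod]
      funext j
      rw [Finset.prod_apply]
      refine Finset.prod_eq_zero (Finset.mem_univ j) ?_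
      show (Pi.evalAlgHom p.ResidueField K j) (Polynomial.aeval (e x) _) = 0
      rw [← Polynomial.aeval_algHom_apply]
      exact minpoly.aeval _ _⟩
    haveI : Algebra.IsIntegral L (L ⊗[R] S) := ⟨fun x => by
      let E := Algebra.TensorProduct.cancelBaseChange R p.ResidueField L L S
      refine (isIntegral_algHom_iff E.symm.toAlgHom E.symm.injective).mp ?_
      exact Algebra.IsIntegral.isIntegral _⟩
    haveI : Ring.KrullDimLE 0 (L ⊗[R] S) := .mk₀ fun P _ =>
      Ideal.isMaximal_of_isIntegral_of_isMaximal_comap P (Ideal.isMaximal_def.mpr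
        (Ideal.isMaximal_def.mp ((Ideal.eq_bot_of_prime (P.comap (algebraMap L (L ⊗[R] S)))).symm ▸
          Ideal.bot_isMaximal)))
    exact Ring.krullDimLE_iff.mpr
      ((ringKrullDim_eq_of_ringEquiv (Algebra.TensorProduct.comm R S L).toRingEquiv).trans_le
        (Ring.krullDimLE_iff.mp inferInstance))
  let μ : S' →ₐ[S] L := Algebra.TensorProduct.lift (Algebra.ofId S L) (AlgHom.id R L)
    fun _ _ => Commute.all _ _
  letI : Algebra S' L := μ.toRingHom.toAlgebra
  haveI : IsScalarTower S S' L := IsScalarTower.of_algebraMap_eq fun s => (μ.commutes s).symm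
  have hμ : Function.Surjective μ := fun x => ⟨1 ⊗ₜ x, (Algebra.TensorProduct.lift_tmul _ _ _ _ _).trans (by rw [map_one, one_mul]; rfl)⟩
  let Q : Ideal S' := RingHom.ker (algebraMap S' L)
  haveI : Q.IsPrime := RingHom.ker_isPrime _
  haveI : IsLocalization Q.primeCompl L := by
    refine ⟨⟨fun s => IsUnit.mk0 _ s.2, fun z => ?_, fun {a b} hab => ?_⟩⟩
    · obtain ⟨x, hx⟩ := hμ z
      exact ⟨(x, 1), by rw [OneMemClass.coe_one, map_one, mul_one]; exact hx.symm⟩
    · have hQmem : a - b ∈ Q := by rw [RingHom.mem_ker, map_sub, hab, sub_self]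
      haveI : Ring.KrullDimLE 0 (Localization.AtPrime Q) :=
        Ring.KrullDimLE.of_isLocalization Q ((Ring.KrullDimLE.mem_minimalPrimes_iff).mpr
          ⟨inferInstance, bot_le⟩) _
      haveI : IsReduced (Localization.AtPrime Q) := inferInstance
      have hF : IsField (Localization.AtPrime Q) := Ring.KrullDimLE.isField_of_isReduced
      have h0 : algebraMap S' (Localization.AtPrime Q) (a - b) = 0 := by
        by_contra hne
        have hu : IsUnit (algebraMap S' (Localization.AtPrime Q) (a - b)) := by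
          letI := hF.toField
          exact IsUnit.mk0 _ hne
        exact (IsLocalization.AtPrime.isUnit_to_map_iff (Localization.AtPrime Q) Q _).mp hu hQmem
      obtain ⟨c, hc⟩ := (IsLocalization.map_eq_zero_iff Q.primeCompl _ _).mp h0
      exact ⟨c, sub_eq_zero.mp (by rw [← mul_sub, hc])⟩
  -- reducedness of the big base change
  obtain ⟨e, he⟩ : ∃ e : EGA4.Cpl S ≃+* EGA4.Cpl R,
      ∀ r : R, e (algebraMap S (EGA4.Cpl S) (algebraMap R S r)) = algebraMap R (EGA4.Cpl R) r :=
    ⟨BrnchLib.complEquiv R S, BrnchLib.complEquiv_comp_algebraMap R S⟩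
  let e' : EGA4.Cpl S ≃ₐ[R] EGA4.Cpl R := AlgEquiv.ofRingEquiv (f := e) fun r => by
    rw [IsScalarTower.algebraMap_apply R S (EGA4.Cpl S)]
    exact he r
  haveI : IsReduced (L ⊗[R] EGA4.Cpl R) := FlatLoc6.isReduced_baseChange_field _ hR L
  haveI : IsReduced (EGA4.Cpl S ⊗[R] L) := by
    let E : EGA4.Cpl S ⊗[R] L ≃ₐ[R] L ⊗[R] EGA4.Cpl R :=
      (Algebra.TensorProduct.congr e' AlgEquiv.refl).trans (Algebra.TensorProduct.comm R _ L)
    exact isReduced_of_injective E E.injective
  haveI hX : IsReduced (S' ⊗[S] EGA4.Cpl S) := by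
    let E₁ := Algebra.TensorProduct.comm S S' (EGA4.Cpl S)
    let E₂ := Algebra.TensorProduct.cancelBaseChange R S (EGA4.Cpl S) (EGA4.Cpl S) L
    let E := E₁.toRingEquiv.trans E₂.toRingEquiv
    exact isReduced_of_injective E E.injective
  haveI : IsLocalization (Algebra.algebraMapSubmonoid (S' ⊗[S] EGA4.Cpl S) Q.primeCompl)
      ((S' ⊗[S] EGA4.Cpl S) ⊗[S'] L) := IsLocalization.tensor (A := L) (S := S' ⊗[S] EGA4.Cpl S) Q.primeCompl
  haveI : IsReduced ((S' ⊗[S] EGA4.Cpl S) ⊗[S'] L) :=
    isReduced_localizationPreserves (Algebra.algebraMapSubmonoid (S' ⊗[S] EGA4.Cpl S) Q.primeCompl) ((S' ⊗[S] EGA4.Cpl S) ⊗[S'] L) hX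
  haveI : IsReduced (L ⊗[S] EGA4.Cpl S) := by
    let E := (Algebra.TensorProduct.cancelBaseChange S S' S' L (EGA4.Cpl S)).symm.toRingEquiv.trans
      (Algebra.TensorProduct.comm S' L (S' ⊗[S] EGA4.Cpl S)).toRingEquiv
    exact isReduced_of_injective E E.injective
  let E := Algebra.TensorProduct.cancelBaseChange S q.ResidueField L L (EGA4.Cpl S)
  exact isReduced_of_injective E E.injective

theorem hasGeomReducedFormalFibres_of_isHenzLike (h : Groth.Agent.Hensel.IsHenzLike R S)
    (hS : EGA4.HasGeomReducedFormalFibres S) : EGA4.HasGeomReducedFormalFibres R := by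
  haveI : IsNoetherianRing S := h.isNoetherianRing_iff.1 inferInstance
  haveI := h.faithfullyFlat
  exact CplFib6.hasGeomReducedFormalFibres_descend R S (fun L _ _ => h.isReduced_tensor L) hS

end Groth.Agent.H4HenzNagata
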